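import Cfsg.Agent.Lib.Helper7.U62M.Defs
import Cfsg.Agent.Lib.Helper7.U62M.TC.PWB
import Cfsg.Agent.Lib.Helper7.U62M.TC.E7B
import Cfsg.Agent.Lib.Helper7.U62M.TC.A5B

set_option autoImplicit false
set_option maxRecDepth 100000
set_option linter.unusedVariables false

/-! The order of the weak group `PW`: coset enumerations `PW` over `⟨c,…,i⟩` (index 76032), the
Coxeter group of type `E₇` over `⟨c,…,g⟩` (index 4032) and the symmetric group of degree six
(order 720); certificates made with helper24's `ptc`/`emit` for helper4's checker. -/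

namespace Cfsg.Agent.Lib.Helper7.U62M

open Cfsg Cfsg.Agent.Helper4.TC

theorem cardA5 : Finite (PresentedGroup (relSet dec TC.A5.bases)) ∧
    Nat.card (PresentedGroup (relSet dec TC.A5.bases)) ≤ 720 := by
  have h := stage_bot (R := relSet dec TC.A5.bases) (S := relSet dec TC.A5.subsL) (by
    rintro s ⟨b, hb, _⟩
    simp [TC.A5.subsL] at hb) _ TC.A5.bound
  exact ⟨h.1, h.2.trans (by decide)⟩

theorem cardE7 : Finite (PresentedGroup (relSet dec TC.E7.bases)) ∧
    Nat.card (PresentedGroup (relSet dec TC.E7.bases)) ≤ 2903040 := by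
  have h := stage_bound (relSet dec TC.E7.bases) (relSet dec TC.A5.bases) (relSet dec TC.E7.subsL)
    TC.E7.bases TC.A5.bases TC.E7.subsL
    (fun x : Gen => decide (x ∈ ([.c, .d, .e, .f, .g] : List Gen))) (mem_relSet _)
    (fun r hr => hr) (fun s hs => hs) (by decide +kernel) (by decide +kernel) TC.E7.n 720
    TC.E7.bound cardA5
  exact ⟨h.1, h.2.trans (by decide)⟩

theorem cardPWB : Finite (PresentedGroup (relSet dec TC.PW.bases)) ∧
    Nat.card (PresentedGroup (relSet dec TC.PW.bases)) ≤ 24 * 9196830720 := by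
  have h := stage_bound (relSet dec TC.PW.bases) (relSet dec TC.E7.bases) (relSet dec TC.PW.subsL)
    TC.PW.bases TC.E7.bases TC.PW.subsL
    (fun x : Gen => decide (x ∈ ([.c, .d, .e, .f, .g, .h, .i] : List Gen))) (mem_relSet _)
    (fun r hr => hr) (fun s hs => hs) (by decide +kernel) (by decide +kernel) TC.PW.n 2903040
    TC.PW.bound cardE7
  exact ⟨h.1, h.2.trans (by decide)⟩

theorem bases_ok : TC.PW.bases.all (fun b => decide (b ∈ relW) || decide (invW b ∈ relW)) = true := by
  decide +kernel

/-- [TC] -/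
theorem card_PW : Finite PW ∧ Nat.card PW ≤ 24 * 9196830720 := by
  have hB : ∀ w ∈ TC.PW.bases, evc (PresentedGroup.of (rels := RW)) dec w = 1 := by
    intro w hw
    have h1 := List.all_eq_true.mp bases_ok w hw
    simp only [Bool.or_eq_true, decide_eq_true_eq] at h1
    rcases h1 with h1 | h1
    · rw [evc_of]
      exact PresentedGroup.one_of_mem (mem_relSet _ w h1)
    · have h2 : evc (PresentedGroup.of (rels := RW)) dec (invW w) = 1 := by
        rw [evc_of]
        exact PresentedGroup.one_of_mem (mem_relSet _ _ h1)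
      rw [evc_invW _ U62QCod.coding, inv_eq_one] at h2
      exact h2
  have hrel : ∀ r ∈ relSet dec TC.PW.bases,
      FreeGroup.lift (PresentedGroup.of (rels := RW)) r = 1 := by
    rintro r ⟨w, hw, rfl⟩
    rw [lift_wordF]
    exact hB w hw
  let ψ : PresentedGroup (relSet dec TC.PW.bases) →* PW := PresentedGroup.toGroup hrel
  have hψ : Function.Surjective ψ := by
    rw [← MonoidHom.range_eq_top, eq_top_iff, ← PresentedGroup.closure_range_of RW,
      Subgroup.closure_le]
    rintro _ ⟨x, rfl⟩
    exact ⟨PresentedGroup.of x, PresentedGroup.toGroup.of hrel⟩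
  obtain ⟨hfin, hcard⟩ := cardPWB
  haveI := hfin
  exact ⟨Finite.of_surjective ψ hψ, (Nat.card_le_card_of_surjective ψ hψ).trans hcard⟩

end Cfsg.Agent.Lib.Helper7.U62M
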