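import Cfsg.Agent.Lib.Helper7.U62M.Defs

set_option autoImplicit false

/-! Certificates for the canonical involution lifts (found by a search in the permutation
representation on the 693 isotropic points; all identities hold in `PSU₆(2)`, i.e. the matrices of
helper4's `U62Mat.DQ` evaluate to scalars).  Code words, helper4's convention. -/

namespace Cfsg.Agent.Lib.Helper7.U62M

/-- `x` and `y`: `x * y * x⁻¹ * y⁻¹ = c`, `x * x = 1` -/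
def xW : List ℕ := [2, 10, 0, 2, 0, 2, 0, 10, 4, 6, 14, 8, 6, 4, 2, 0, 2, 4, 6, 8, 14, 6, 4, 2]
def yW : List ℕ := [12, 2, 10, 8, 6, 4, 2, 0, 2, 4, 6, 8, 10, 2, 4, 2, 10, 6, 4, 2, 0, 2, 4, 6, 10, 2, 4, 12]
/-- `u` with `u ^ 3 = 1`, `(x * u⁻¹) ^ 3 = 1`, both commuting with `c` -/
def xuW : List ℕ := [12, 10]
def xuOrd : ℕ × ℕ := (3, 3)
def gwW : Gen → List ℕ
  | .c => []
  | .d => [2, 0]
  | .e => [2, 0, 4, 2]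
  | .f => [2, 0, 4, 2, 6, 4]
  | .g => [2, 0, 4, 2, 6, 4, 8, 6]
  | .h => [2, 0, 10, 2]
  | .i => [2, 0, 10, 2, 12, 10]
  | .x => [2, 0, 4, 2, 6, 4, 14, 6]
/-- `(i, j, u, m₂, m₁)`: with `h = (gw j)⁻¹ * s i * gw j`: `u ^ m₂ = 1`, `(h * u⁻¹) ^ m₁ = 1`, `u` and `h` commute with `c` -/
def commCert : List (Gen × Gen × List ℕ × ℕ × ℕ) := [
  (.c, .e, [6, 10, 8, 14, 6, 2, 10, 4, 0, 2, 10, 4, 0, 2, 10, 4, 0, 8, 6, 12], 9, 9),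
  (.c, .f, [6, 10, 8, 14, 6, 2, 10, 4, 0, 2, 10, 4, 0, 2, 10, 4, 0, 8, 6, 12], 9, 9),
  (.c, .g, [6, 10, 8, 14, 6, 2, 10, 4, 0, 2, 10, 4, 0, 2, 10, 4, 0, 8, 6, 12], 9, 9),
  (.c, .h, [8, 2, 10, 4, 0, 2, 10, 4, 0, 2, 12, 6, 14, 6], 9, 9),
  (.c, .i, [8, 2, 10, 4, 0, 2, 10, 4, 0, 2, 12, 6, 14, 6], 9, 9),
  (.c, .x, [6, 10, 8, 14, 6, 2, 10, 4, 0, 2, 10, 4, 0, 2, 10, 4, 0, 8, 6, 12], 9, 9),
  (.d, .f, [14, 6, 0, 2, 10, 4, 0, 2, 10, 4, 0, 2, 10, 4, 8, 12], 9, 9),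
  (.d, .g, [14, 12, 6, 2, 10, 4, 0, 2, 10, 4, 0, 2, 10, 4, 0, 8], 5, 9),
  (.d, .i, [14, 8, 12, 6, 2, 10, 4, 0, 2, 10, 4, 0, 2, 10, 4, 0], 5, 9),
  (.d, .x, [2, 10, 4, 0, 2, 10, 4, 0, 2, 10, 4, 0, 8, 6, 12, 14], 5, 9),
  (.e, .g, [2, 10, 4, 0, 2, 10, 4, 0, 2, 10, 4, 0, 12, 6, 14, 12], 9, 9),
  (.e, .h, [8, 14, 10, 12, 14, 6], 5, 9),
  (.e, .i, [8, 14, 10, 12, 14, 6], 5, 9),
  (.e, .x, [6, 8, 12, 2, 10, 4, 0, 2, 10, 4, 0, 2, 10, 4, 0], 5, 5),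
  (.f, .h, [14, 12, 6, 2, 10, 4, 0, 2, 10, 4, 0, 2, 10, 4, 0, 8], 5, 9),
  (.f, .i, [8, 2, 10, 4, 0, 2, 10, 4, 0, 2, 10, 4, 0, 6, 14, 12], 9, 9),
  (.g, .h, [12, 14, 6, 2, 10, 4, 0, 2, 10, 4, 0, 2, 10, 4, 0, 14], 9, 9),
  (.g, .i, [2, 10, 4, 0, 2, 10, 4, 0, 2, 10, 4, 0, 6, 12, 14, 6], 9, 9),
  (.g, .x, [14, 12, 10, 2, 10, 4, 0, 2, 10, 4, 0, 2, 10, 4, 12, 6], 9, 9),
  (.h, .x, [8, 14, 10, 12, 14, 6], 5, 9)]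
/-- `(i, j, u, m₂, m₁)`: with `h = (gw j)⁻¹ * s i * s j * gw i`: the same (`u = []`, `m₂ = m₁ = 1` when `h = 1`) -/
def edgeCert : List (Gen × Gen × List ℕ × ℕ × ℕ) := [
  (.c, .d, [], 1, 1),
  (.d, .e, [], 1, 1),
  (.d, .h, [], 1, 1),
  (.e, .f, [], 1, 1),
  (.f, .g, [], 1, 1),
  (.f, .x, [], 1, 1),
  (.h, .i, [], 1, 1),
  (.i, .x, [12, 6, 14, 4], 5, 5)]

end Cfsg.Agent.Lib.Helper7.U62M
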