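import Cfsg.Agent.Lib.Helper4.TC.U62Iso
import Cfsg.Agent.Lib.Helper4.TC.Schur3

set_option autoImplicit false
set_option maxRecDepth 100000
set_option linter.unusedVariables false

/-! Schur multiplier of `PSU₆(2)`: the basic objects.  Generators: helper4's eight transvections
`c d e f g h i x` of `Pres.U62Q` (codes `0 2 4 6 8 10 12 14`, odd codes = inverses; a code word
`[l₁, …, lₙ]` evaluates to `gl lₙ * ⋯ * gl l₁`).  `PW` is the group in which the Coxeter relators hold
and the five further relators are only central; `PW1` is its quotient in which the first and the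
fourth of them hold as well. -/

namespace Cfsg.Agent.Lib.Helper7.U62M

open Cfsg Cfsg.Agent.Helper4.TC

abbrev Gen : Type := Cfsg.Agent.Helper4.Pres.U62Q.Gen
abbrev dec : ℕ → Letter Gen := U62QCod.dec
abbrev enc : Gen → ℕ := U62QCod.enc
abbrev RP : Set (FreeGroup Gen) := U62QS.Rset
abbrev P : Type := PresentedGroup RP

/-- the eight generators, as code words -/
def gensL : List (List ℕ) := [[0], [2], [4], [6], [8], [10], [12], [14]]

/-- the 64 Coxeter relators `(y x)^m`, as code words (the first 64 entries of helper4's `U62QPc.bases`) -/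
def coxL : List (List ℕ) := U62QPc.bases.take 64

/-- `(d e f x i h i x f e)^3` -/
def rho1 : List ℕ := [4, 6, 14, 12, 10, 12, 14, 6, 4, 2, 4, 6, 14, 12, 10, 12, 14, 6, 4, 2, 4, 6, 14, 12, 10, 12, 14, 6, 4, 2]
/-- `(d e f x i h)^5` -/
def rho2 : List ℕ := [10, 12, 14, 6, 4, 2, 10, 12, 14, 6, 4, 2, 10, 12, 14, 6, 4, 2, 10, 12, 14, 6, 4, 2, 10, 12, 14, 6, 4, 2]
/-- `(e f g x i h)^5` -/
def rho3 : List ℕ := [10, 12, 14, 8, 6, 4, 10, 12, 14, 8, 6, 4, 10, 12, 14, 8, 6, 4, 10, 12, 14, 8, 6, 4, 10, 12, 14, 8, 6, 4]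
/-- `(c d e f g h i)^9` -/
def rho4 : List ℕ := [12, 10, 8, 6, 4, 2, 0, 12, 10, 8, 6, 4, 2, 0, 12, 10, 8, 6, 4, 2, 0, 12, 10, 8, 6, 4, 2, 0, 12, 10, 8, 6, 4, 2, 0, 12, 10, 8, 6, 4, 2, 0, 12, 10, 8, 6, 4, 2, 0, 12, 10, 8, 6, 4, 2, 0, 12, 10, 8, 6, 4, 2, 0]
/-- `(x i h d c e)^5` -/
def rho5 : List ℕ := [4, 0, 2, 10, 12, 14, 4, 0, 2, 10, 12, 14, 4, 0, 2, 10, 12, 14, 4, 0, 2, 10, 12, 14, 4, 0, 2, 10, 12, 14]

def centL : List (List ℕ) := [rho1, rho2, rho3, rho4, rho5]

theorem bases_eq : U62QPc.bases = coxL ++ centL := by decide +kernel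

/-- the relators of the weak group -/
def relW : List (List ℕ) := coxL ++ Schur.weakify0 gensL centL
abbrev RW : Set (FreeGroup Gen) := relSet dec relW
/-- the weak group: Coxeter relators exact, the five further relators central -/
abbrev PW : Type := PresentedGroup RW

def relW1 : List (List ℕ) := (coxL ++ [rho1, rho4]) ++ Schur.weakify0 gensL [rho2, rho3, rho5]
abbrev RW1 : Set (FreeGroup Gen) := relSet dec relW1
/-- the quotient of the weak group in which `rho1` and `rho4` hold: the covering group -/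
abbrev PW1 : Type := PresentedGroup RW1

theorem wordF_mem_RP (b : List ℕ) (hb : b ∈ coxL ++ centL) : wordF dec b ∈ RP := by
  rw [← bases_eq] at hb
  exact U62QPc.hR2 b hb

/-- every relator word of `P` evaluates to one -/
theorem evc_of_eq_one (b : List ℕ) (hb : b ∈ coxL ++ centL) :
    evc (PresentedGroup.of (rels := RP)) dec b = 1 := by
  rw [evc_of]
  exact PresentedGroup.one_of_mem (wordF_mem_RP b hb)

end Cfsg.Agent.Lib.Helper7.U62M
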