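import Cfsg.Agent.Lib.Helper7.U62M.CardPW
import Cfsg.Agent.Lib.Helper3.U62MPAR
import Cfsg.Agent.Lib.Helper9.U62MCLBAlt
import Cfsg.Agent.Lib.Helper9.U62MCLCGen
import Cfsg.Agent.Lib.Helper18.U62MUB
import Cfsg.Agent.Lib.Helper18.U62MEXC
import Cfsg.Agent.Lib.Helper18.U62MFiB
import Cfsg.Agent.Lib.Helper18.U62MFiC
import Cfsg.Agent.Lib.Helper17.U62MEXSU
import Cfsg.Agent.Lib.Helper23.U62MEX
import Cfsg.Agent.Lib.Helper23.L34T
import Cfsg.Agent.Lib.Helper17.O73MultUT
import Cfsg.Agent.Lib.Helper6.SUTransport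

set_option autoImplicit false
set_option maxRecDepth 100000
set_option linter.unusedVariables false

/-! The Schur multiplier of `PSU₆(2)` is `C3 × C2 × C2`: assembly.

Upper bound: in every central extension of `P = Pres.U62Q ≅ PSU₆(2)` the eight transvections have
canonical involution lifts satisfying the Coxeter relators ([CL-A] helper23, certificates [CL-B],
[CL-C] helper9), so a stem extension is a perfect quotient of the weak group `PW`, whose
order is at most `24 |P|` by coset enumeration ([TC]); the parity character halves this ([PAR]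
helper3, [UB] helper18).  Existence: the group `PW1` ([EX-card], [EX-perf] helper18, models [EX-SU]
helper17, [EX-FiB], [EX-FiC] helper18, [EX-K] helper3, [EX] helper23). -/

namespace Cfsg.Agent.Lib.Helper7.U62M

open Cfsg Cfsg.Agent.Helper4.TC

theorem card_P : Nat.card P = 9196830720 := U62QS.main.2

theorem exists_lifts {Γ : Type} [Group Γ] (σ : Γ →* P) (hs : Function.Surjective σ)
    (hk : σ.ker ≤ Subgroup.center Γ) :
    ∃ g : Gen → Γ, (∀ x, σ (g x) = PresentedGroup.of x) ∧ ∀ b ∈ coxL, evc g dec b = 1 :=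
  Helper9.exists_lifts_of cert_main σ hs hk

theorem card_ker_le {Γ : Type} [Group Γ] [Finite Γ] (σ : Γ →* P) (hσ : IsStemExtension σ) :
    Nat.card σ.ker ≤ 12 :=
  card_ker_le_of (fun σ hs hk => exists_lifts σ hs hk) card_PW exists_parity σ hσ

theorem card_PW1 : Finite PW1 ∧ Nat.card PW1 ≤ 12 * 9196830720 :=
  card_PW1_of card_PW exists_parity

theorem exists_stem : ∃ τ : PW1 →* P, IsStemExtension τ ∧
    Nonempty (τ.ker ≃* Multiplicative (ZMod 3 × ZMod 2 × ZMod 2)) :=
  Helper23.exists_stem_of card_PW1 perfect_PW1 exists_hom_A exists_hom_B exists_hom_C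

theorem hasMult_P : HasSchurMultiplier P (Multiplicative (ZMod 3 × ZMod 2 × ZMod 2)) := by
  haveI : Finite PW1 := card_PW1.1
  haveI : Finite P := Nat.finite_of_card_ne_zero (by rw [card_P]; norm_num)
  obtain ⟨τ, hτ, he⟩ := exists_stem
  refine Cfsg.Agent.Lib.Helper7.L34.hasSchurMultiplier_of_card_le
    ⟨PW1, inferInstance, inferInstance, τ, hτ, he⟩ ?_
  intro Γ _ _ σ hσ
  have h12 : Nat.card (Multiplicative (ZMod 3 × ZMod 2 × ZMod 2)) = 12 := by
    rw [Nat.card_eq_fintype_card]; rfl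
  rw [h12]
  exact card_ker_le σ hσ

theorem main {F : Type*} [Field F] [Fintype F] (hF : Fintype.card F = 4) :
    HasSchurMultiplier (Cfsg.PSU 6 F 2) (Multiplicative (ZMod 3 × ZMod 2 × ZMod 2)) := by
  obtain ⟨e⟩ := U62Iso.iso
  have eK : Cfsg.Agent.Lib.Helper6.FFour.K4 ≃+* F :=
    FiniteField.ringEquivOfCardEq (by rw [k4_card, hF]; rfl)
  haveI : Finite P := Nat.finite_of_card_ne_zero (by rw [card_P]; norm_num)
  exact Cfsg.Agent.Lib.Helper2.O73Mult.hasSchurMultiplier_of_mulEquiv
    ((e.trans (Cfsg.Agent.Lib.Helper6.SUTransport.psuEquiv eK)).symm) hasMult_P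

end Cfsg.Agent.Lib.Helper7.U62M
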